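import Mathlib
import Groth.Agent.HomRep.HomScheme
import Groth.Agent.InfLift.SchemeLocal

/-! # The etale separated scheme of clopen subsets of a finite locally free scheme -/

set_option autoImplicit false
set_option backward.isDefEq.respectTransparency false

universe u

open CategoryTheory CategoryTheory.Limits AlgebraicGeometry TopologicalSpace MonoidalCategory CartesianMonoidalCategory

namespace Groth.Agent.HensClopen

variable {S : Scheme.{u}}

/-- two copies of the base -/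
noncomputable abbrev two (S : Scheme.{u}) : Over S := Over.mk (coprod.desc (𝟙 S) (𝟙 S))

theorem lfp_two : LocallyOfFinitePresentation (two S).hom := by
  refine IsZariskiLocalAtSource.of_openCover (P := @LocallyOfFinitePresentation) (coprodOpenCover.{u, 0} S S) ?_
  rintro (_ | _)
  · show LocallyOfFinitePresentation (coprod.inl ≫ coprod.desc (𝟙 S) (𝟙 S))
    rw [coprod.inl_desc]; infer_instance
  · show LocallyOfFinitePresentation (coprod.inr ≫ coprod.desc (𝟙 S) (𝟙 S))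
    rw [coprod.inr_desc]; infer_instance

/-- the clopen subset attached to a map to two copies of the base -/
def sel {Z : Scheme.{u}} (φ : Z ⟶ S ⨿ S) : Set Z := φ ⁻¹' Set.range (coprod.inl : S ⟶ S ⨿ S)

theorem isClopen_range_inl : IsClopen (Set.range (coprod.inl : S ⟶ S ⨿ S)) := by
  refine ⟨⟨?_⟩, (coprod.inl : S ⟶ S ⨿ S).isOpenEmbedding.isOpen_range⟩
  rw [(isCompl_range_inl_inr S S).compl_eq]
  exact (coprod.inr : S ⟶ S ⨿ S).isOpenEmbedding.isOpen_range

theorem isClopen_sel {Z : Scheme.{u}} (φ : Z ⟶ S ⨿ S) : IsClopen (sel φ) :=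
  isClopen_range_inl.preimage φ.continuous

theorem hom_ext_sel {Z : Scheme.{u}} {φ ψ : Z ⟶ S ⨿ S}
    (h1 : φ ≫ coprod.desc (𝟙 S) (𝟙 S) = ψ ≫ coprod.desc (𝟙 S) (𝟙 S)) (h2 : sel φ = sel ψ) : φ = ψ := by
  have key : ∀ (U : Z.Opens) (c : S ⟶ S ⨿ S) [IsOpenImmersion c], c ≫ coprod.desc (𝟙 S) (𝟙 S) = 𝟙 S →
      (∀ z ∈ U, φ z ∈ Set.range c ∧ ψ z ∈ Set.range c) → U.ι ≫ φ = U.ι ≫ ψ := by
    intro U c _ hc hU
    have ha : Set.range (U.ι ≫ φ) ⊆ Set.range c := by
      rintro _ ⟨z, rfl⟩; exact (hU z.1 z.2).1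
    have hb : Set.range (U.ι ≫ ψ) ⊆ Set.range c := by
      rintro _ ⟨z, rfl⟩; exact (hU z.1 z.2).2
    have e := congrArg (fun m : U.toScheme ⟶ _ => m ≫ coprod.desc (𝟙 S) (𝟙 S)) (IsOpenImmersion.lift_fac c _ ha)
    have e' := congrArg (fun m : U.toScheme ⟶ _ => m ≫ coprod.desc (𝟙 S) (𝟙 S)) (IsOpenImmersion.lift_fac c _ hb)
    simp only [Category.assoc, hc, Category.comp_id] at e e'
    rw [← IsOpenImmersion.lift_fac c _ ha, ← IsOpenImmersion.lift_fac c _ hb, e, e', h1]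
  refine Scheme.hom_ext_of_forall _ _ fun z => ?_
  by_cases hz : z ∈ sel φ
  · exact ⟨⟨sel φ, (isClopen_sel φ).2⟩, hz, key _ coprod.inl (coprod.inl_desc _ _) fun w hw =>
      ⟨hw, (h2 ▸ hw : w ∈ sel ψ)⟩⟩
  · refine ⟨⟨(sel φ)ᶜ, (isClopen_sel φ).1.isOpen_compl⟩, hz, key _ coprod.inr (coprod.inr_desc _ _) fun w hw => ?_⟩
    rw [← (isCompl_range_inl_inr S S).compl_eq]
    exact ⟨hw, fun h => hw (h2.symm ▸ (h : w ∈ sel ψ))⟩

theorem exists_hom_sel {Z : Scheme.{u}} (h : Z ⟶ S) {U : Set Z} (hU : IsClopen U) :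
    ∃ φ : Z ⟶ S ⨿ S, φ ≫ coprod.desc (𝟙 S) (𝟙 S) = h ∧ sel φ = U := by
  let A : Z.Opens := ⟨U, hU.2⟩
  let B : Z.Opens := ⟨Uᶜ, hU.1.isOpen_compl⟩
  have hAB : IsCompl A.ι.opensRange B.ι.opensRange := by
    rw [Scheme.Opens.opensRange_ι, Scheme.Opens.opensRange_ι, isCompl_iff, disjoint_iff, codisjoint_iff,
      ← Opens.coe_inj, ← Opens.coe_inj]
    exact ⟨Set.inter_compl_self U, Set.union_compl_self U⟩
  obtain ⟨hc⟩ := nonempty_isColimit_binaryCofanMk_of_isCompl A.ι B.ι hAB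
  obtain ⟨φ, hA, hB⟩ := BinaryCofan.IsColimit.desc' hc (A.ι ≫ h ≫ coprod.inl) (B.ι ≫ h ≫ coprod.inr)
  simp only [BinaryCofan.mk_inl] at hA
  simp only [BinaryCofan.mk_inr] at hB
  refine ⟨φ, ?_, ?_⟩
  · refine BinaryCofan.IsColimit.hom_ext hc ?_ ?_
    · simp only [BinaryCofan.mk_inl, reassoc_of% hA, coprod.inl_desc, Category.comp_id]
    · simp only [BinaryCofan.mk_inr, reassoc_of% hB, coprod.inr_desc, Category.comp_id]
  · ext z
    by_cases hz : z ∈ U
    · refine iff_of_true ?_ hz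
      exact ⟨h z, (congrArg (fun m : A.toScheme ⟶ S ⨿ S => m ⟨z, hz⟩) hA).symm⟩
    · refine iff_of_false ?_ hz
      intro hmem
      have : φ z ∈ Set.range (coprod.inr : S ⟶ S ⨿ S) :=
        ⟨h z, (congrArg (fun m : B.toScheme ⟶ S ⨿ S => m ⟨z, hz⟩) hB).symm⟩
      exact Set.disjoint_iff.mp (isCompl_range_inl_inr S S).disjoint ⟨hmem, this⟩

/-- a surjective closed immersion of the base induces a homeomorphism on clopens -/
theorem clopen_bijective {Z Z₀ : Scheme.{u}} (c : Z₀ ⟶ Z) [IsClosedImmersion c] [Surjective c]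
    {V : Set Z₀} (hV : IsClopen V) : ∃ U : Set Z, IsClopen U ∧ c ⁻¹' U = V := by
  have hh : IsHomeomorph c := isHomeomorph_iff_isEmbedding_surjective.2
    ⟨c.isClosedEmbedding.isEmbedding, c.surjective⟩
  exact ⟨c '' V, ⟨hh.isClosedMap _ hV.1, hh.isOpenMap _ hV.2⟩, Set.preimage_image_eq _ hh.injective⟩

theorem exists_clopenScheme {S' : Scheme.{u}} (g : S' ⟶ S) [IsFinite g] [Flat g]
    [LocallyOfFinitePresentation g] :
    ∃ (M : Over S) (ev : Over.mk g ⊗ M ⟶ two S), IsSeparated M.hom ∧ Etale M.hom ∧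
      ∀ (T : Over S) (φ : Over.mk g ⊗ T ⟶ two S), ∃! v : T ⟶ M, (Over.mk g ◁ v) ≫ ev = φ := by
  haveI : IsFinite (Over.mk g).hom := ‹IsFinite g›
  haveI : Flat (Over.mk g).hom := ‹Flat g›
  haveI : LocallyOfFinitePresentation (Over.mk g).hom := ‹LocallyOfFinitePresentation g›
  haveI : IsAffineHom (two S).hom := inferInstanceAs (IsAffineHom (coprod.desc (𝟙 S) (𝟙 S)))
  obtain ⟨M, ev, hM, -, hfp, huniv⟩ := Groth.Agent.HomRep.exists_homScheme (Over.mk g) (two S)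
  haveI := hfp lfp_two
  refine ⟨M, ev, inferInstance, ?_, huniv⟩
  refine Groth.Agent.InfLift.etale_of_isFormallyEtaleHom M.hom fun A _ I hI a b hab => ?_
  let T : Over S := Over.mk b
  let T₀ : Over S := Over.mk (a ≫ M.hom)
  let c : T₀ ⟶ T := Over.homMk (Spec.map (CommRingCat.ofHom (Ideal.Quotient.mk I))) hab
  let a' : T₀ ⟶ M := Over.homMk a rfl
  haveI : IsClosedImmersion c.left := Groth.Agent.InfLift.isClosedImmersion_specQuot I
  haveI : Surjective c.left := Groth.Agent.InfLift.surjective_specQuot I hI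
  have hsq : IsPullback (Over.mk g ◁ c).left (pullback.snd g T₀.hom) (pullback.snd g T.hom) c.left := by
    have e1 : (Over.mk g ◁ c).left ≫ pullback.fst g T.hom = pullback.fst g T₀.hom :=
      Over.whiskerLeft_left_fst _
    have e2 : (Over.mk g ◁ c).left ≫ pullback.snd g T.hom = pullback.snd g T₀.hom ≫ c.left :=
      Over.whiskerLeft_left_snd _
    refine IsPullback.of_right ?_ e2 (IsPullback.of_hasPullback g T.hom)
    rw [e1, Over.w c]
    exact IsPullback.of_hasPullback g T₀.hom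
  haveI : IsClosedImmersion (Over.mk g ◁ c).left :=
    MorphismProperty.of_isPullback hsq.flip ‹IsClosedImmersion c.left›
  haveI : Surjective (Over.mk g ◁ c).left :=
    MorphismProperty.of_isPullback hsq.flip ‹Surjective c.left›
  let φ₀ := (Over.mk g ◁ a') ≫ ev
  obtain ⟨U, hU, hUc⟩ := clopen_bijective (Over.mk g ◁ c).left (isClopen_sel φ₀.left)
  obtain ⟨φl, hφl, hselφ⟩ := exists_hom_sel (Over.mk g ⊗ T).hom hU
  let φ : Over.mk g ⊗ T ⟶ two S := Over.homMk φl hφl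
  have hφ : (Over.mk g ◁ c) ≫ φ = φ₀ := by
    apply Over.OverMorphism.ext
    refine hom_ext_sel ((Over.w ((Over.mk g ◁ c) ≫ φ)).trans (Over.w φ₀).symm) ?_
    rw [← hUc, ← hselφ]; rfl
  obtain ⟨v, hv, hvu⟩ := huniv T φ
  have hcv : c ≫ v = a' := (huniv T₀ φ₀).unique (by rw [whiskerLeft_comp, Category.assoc, hv, hφ]) rfl
  refine ⟨v.left, ⟨congrArg (fun m => m.left) hcv, Over.w v⟩, fun l hl => ?_⟩
  let w : T ⟶ M := Over.homMk l hl.2
  suffices w = v from congrArg (fun m => m.left) this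
  apply hvu
  have hcw : c ≫ w = a' := Over.OverMorphism.ext hl.1
  apply Over.OverMorphism.ext
  refine hom_ext_sel ((Over.w ((Over.mk g ◁ w) ≫ ev)).trans (Over.w φ).symm) ?_
  refine (Over.mk g ◁ c).left.surjective.preimage_injective ?_
  have e : (Over.mk g ◁ c) ≫ (Over.mk g ◁ w) ≫ ev = φ₀ := by
    rw [← whiskerLeft_comp_assoc, hcw]
  exact (congrArg (fun m : Over.mk g ⊗ T₀ ⟶ two S => sel m.left) (e.trans hφ.symm) :)

/-- lifting sections of etale separated morphisms gives lifting of clopens along finite locally free ones -/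
theorem existsUnique_clopen {S₀ : Scheme.{u}} (i : S₀ ⟶ S)
    (hb : ∀ (S' : Scheme.{u}) (g : S' ⟶ S), Etale g → IsSeparated g →
      ∀ u₀ : S₀ ⟶ pullback g i, u₀ ≫ pullback.snd g i = 𝟙 S₀ →
        ∃! u : S ⟶ S', u ≫ g = 𝟙 S ∧ i ≫ u = u₀ ≫ pullback.fst g i)
    {S' : Scheme.{u}} (g : S' ⟶ S) [IsFinite g] [Flat g] [LocallyOfFinitePresentation g]
    (V : Set ↥(pullback g i)) (hV : IsClopen V) :
    ∃! U : Set ↥S', IsClopen U ∧ (pullback.fst g i).base ⁻¹' U = V := by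
  obtain ⟨M, ev, hsep, het, huniv⟩ := exists_clopenScheme g
  let T₀ : Over S := Over.mk i
  obtain ⟨φl, hφl, hselφ⟩ := exists_hom_sel (Over.mk g ⊗ T₀).hom (U := V) hV
  obtain ⟨v₀, hv₀, -⟩ := huniv T₀ (Over.homMk φl hφl)
  let u₀ : S₀ ⟶ pullback M.hom i :=
    pullback.lift v₀.left (𝟙 _) (by rw [Category.id_comp]; exact Over.w v₀)
  obtain ⟨u, ⟨hu, hiu⟩, huu⟩ := hb M.left M.hom het hsep u₀ (pullback.lift_snd _ _ _)
  rw [pullback.lift_fst] at hiu huu
  let O : Over S := Over.mk (𝟙 S)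
  let vU : O ⟶ M := Over.homMk u hu
  let ι₀ : T₀ ⟶ O := Over.homMk i (Category.comp_id _)
  let σ : S' ⟶ pullback g (𝟙 S) := pullback.lift (𝟙 _) g (by simp)
  have hσ : pullback.fst g (𝟙 S) ≫ σ = 𝟙 _ := by
    apply pullback.hom_ext
    · simp [σ]
    · simp [σ, pullback.condition]
  have hwc : (Over.mk g ◁ ι₀).left = pullback.fst g i ≫ σ := by
    apply pullback.hom_ext
    · show _ = (pullback.fst g i ≫ σ) ≫ pullback.fst g (𝟙 S)
      rw [Category.assoc, pullback.lift_fst, Category.comp_id]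
      exact Over.whiskerLeft_left_fst _
    · show _ = (pullback.fst g i ≫ σ) ≫ pullback.snd g (𝟙 S)
      rw [Category.assoc, pullback.lift_snd, pullback.condition]
      exact Over.whiskerLeft_left_snd _
  have hv : ι₀ ≫ vU = v₀ := Over.OverMorphism.ext hiu
  have hsel : ∀ A : Set S', ∀ φ : Over.mk g ⊗ O ⟶ two S, σ ⁻¹' sel φ.left = A →
      sel ((Over.mk g ◁ ι₀) ≫ φ).left = pullback.fst g i ⁻¹' A := by
    intro A φ h
    rw [← h, Over.comp_left, hwc]; rfl
  let ψ : Over.mk g ⊗ O ⟶ two S := (Over.mk g ◁ vU) ≫ ev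
  refine ⟨σ ⁻¹' sel ψ.left, ⟨(isClopen_sel _).preimage σ.continuous, ?_⟩, fun A ⟨hA, hAV⟩ => ?_⟩
  · have e := hsel _ ψ rfl
    rw [← whiskerLeft_comp_assoc, hv, hv₀] at e
    exact e.symm.trans hselφ
  obtain ⟨ψl, hψl, hselψ⟩ := exists_hom_sel (Over.mk g ⊗ O).hom
    (U := pullback.fst g (𝟙 S) ⁻¹' A) (hA.preimage (pullback.fst g (𝟙 S)).continuous)
  obtain ⟨w, hw, -⟩ := huniv O (Over.homMk ψl hψl)
  have hAσ : σ ⁻¹' (pullback.fst g (𝟙 S) ⁻¹' A) = A := by
    ext z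
    rw [Set.mem_preimage, Set.mem_preimage, ← Scheme.Hom.comp_apply, pullback.lift_fst]
    rfl
  have hw₀ : ι₀ ≫ w = v₀ := by
    refine (huniv T₀ (Over.homMk φl hφl)).unique ?_ hv₀
    rw [whiskerLeft_comp, Category.assoc, hw]
    apply Over.OverMorphism.ext
    refine hom_ext_sel ((Over.w _).trans hφl.symm) ?_
    rw [hsel A _ (by show σ ⁻¹' sel ψl = A; rw [hselψ]; exact hAσ)]
    exact hAV.trans hselφ.symm
  have hwu : w.left = u := huu _ ⟨Over.w w, congrArg (fun m => m.left) hw₀⟩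
  have hwv : w = vU := Over.OverMorphism.ext hwu
  rw [← hAσ, ← hselψ, show ψl = ψ.left from (congrArg (fun m => m.left) (hw.symm.trans (by rw [hwv])) :)]

end Groth.Agent.HensClopen
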