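import Mathlib
import Groth.Agent.LocImmFT.Finite

/-! # Clopen lifting along finite morphisms gives lifting of sections of etale separated morphisms -/

set_option autoImplicit false
set_option backward.isDefEq.respectTransparency false

universe u

open CategoryTheory CategoryTheory.Limits AlgebraicGeometry TopologicalSpace

namespace Groth.Agent.HensClopen

theorem locallyQuasiFinite_etale {X Y : Scheme.{u}} (h : X ⟶ Y) [Etale h] : LocallyQuasiFinite h := by
  refine ⟨fun {U} hU {W} hW e => ?_⟩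
  have := HasRingHomProperty.appLE (P := @Etale) h inferInstance ⟨U, hU⟩ ⟨W, hW⟩ e
  algebraize [(h.appLE U W e).hom]
  show @Algebra.QuasiFinite _ _ _ _ (h.appLE U W e).hom.toAlgebra
  infer_instance

theorem exists_opens_compact {X : Scheme.{u}} {K : Set X} (hK : IsCompact K) :
    ∃ W : X.Opens, IsCompact (W : Set X) ∧ K ⊆ (W : Set X) := by
  choose U hU hxU _ using fun x : X => exists_isAffineOpen_mem_and_subset (U := (⊤ : X.Opens)) (x := x) trivial
  obtain ⟨t, ht⟩ := hK.elim_finite_subcover (fun x => (U x : Set X)) (fun x => (U x).isOpen)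
    (fun x _ => Set.mem_iUnion.2 ⟨x, hxU x⟩)
  exact ⟨⟨⋃ x ∈ t, (U x : Set X), isOpen_biUnion fun x _ => (U x).isOpen⟩,
    t.isCompact_biUnion fun x _ => (hU x).isCompact, ht⟩

/-- a section of an etale morphism is an open immersion -/
theorem isOpenImmersion_section {X Y : Scheme.{u}} (q : X ⟶ Y) [Etale q] (s : Y ⟶ X) (h : s ≫ q = 𝟙 Y) :
    IsOpenImmersion s := by
  haveI : Etale (s ≫ q) := by rw [h]; infer_instance
  haveI : Etale s := Etale.of_comp s q
  haveI : Mono s := (SplitMono.mk q h).mono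
  exact IsOpenImmersion.of_flat_of_mono s

variable {S S₀ : Scheme.{u}} (i : S₀ ⟶ S)

variable (ha : ∀ (S' : Scheme.{u}) (g : S' ⟶ S), IsFinite g →
  ∀ V : Set ↥(pullback g i), IsClopen V → ∃! U : Set ↥S', IsClopen U ∧ (pullback.fst g i).base ⁻¹' U = V)

include ha in
theorem eq_univ {Y : Scheme.{u}} (h : Y ⟶ S) [IsFinite h] (A : Set Y) (hA : IsClopen A)
    (hp : ∀ p, (pullback.fst h i) p ∈ A) : A = Set.univ :=
  (ha Y h inferInstance Set.univ isClopen_univ).unique ⟨hA, Set.eq_univ_of_forall hp⟩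
    ⟨isClopen_univ, Set.preimage_univ⟩

include ha in
theorem false_of_empty {Y : Scheme.{u}} (h : Y ⟶ S) [IsFinite h] (hp : ↥(pullback h i) → False)
    (y : Y) : False := by
  have := eq_univ i ha h ∅ isClopen_empty (fun p => (hp p).elim)
  exact (this ▸ Set.mem_univ y : y ∈ (∅ : Set Y))

theorem range_snd_id (q : S₀) : ∃ p : ↥(pullback (𝟙 S) i), pullback.snd (𝟙 S) i p = q := by
  exact ⟨(pullback.lift i (𝟙 _) (by simp) : S₀ ⟶ pullback (𝟙 S) i) q, by
    rw [← Scheme.Hom.comp_apply, pullback.lift_snd]; rfl⟩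

include ha in
theorem eq_univ_of_range (A : Set S) (hA : IsClopen A) (hi : ∀ q, i q ∈ A) : A = Set.univ :=
  eq_univ i ha (𝟙 S) A hA fun p => by
    have h := hi (pullback.snd (𝟙 S) i p)
    rwa [← Scheme.Hom.comp_apply, ← pullback.condition, Category.comp_id] at h

include ha in
theorem section_unique {S' : Scheme.{u}} (g : S' ⟶ S) [Etale g] [IsSeparated g] {u v : S ⟶ S'}
    (hu : u ≫ g = 𝟙 S) (hv : v ≫ g = 𝟙 S) (h : i ≫ u = i ≫ v) : u = v := by
  let w : S ⟶ pullback g g := pullback.lift u v (hu.trans hv.symm)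
  have hC : IsClopen (w ⁻¹' Set.range (pullback.diagonal g)) :=
    (show IsClopen (Set.range (pullback.diagonal g)) from ⟨(pullback.diagonal g).isClosedEmbedding.isClosed_range,
      (pullback.diagonal g).isOpenEmbedding.isOpen_range⟩).preimage w.continuous
  have hall := eq_univ_of_range i ha _ hC fun q => by
    refine ⟨u (i q), ?_⟩
    have : i ≫ w = (i ≫ u) ≫ pullback.diagonal g := by
      apply pullback.hom_ext <;> simp [w, h]
    exact (congrArg (fun m : S₀ ⟶ pullback g g => m q) this).symm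
  have hr : Set.range w ⊆ Set.range (pullback.diagonal g) := by
    rintro _ ⟨s, rfl⟩
    exact (hall.ge (Set.mem_univ s) : s ∈ w ⁻¹' Set.range (pullback.diagonal g))
  have hl := IsOpenImmersion.lift_fac (pullback.diagonal g) w hr
  have h1 : IsOpenImmersion.lift (pullback.diagonal g) w hr = u := by
    have h := congrArg (· ≫ pullback.fst g g) hl
    simp only [w, Category.assoc, pullback.diagonal_fst, Category.comp_id, pullback.lift_fst] at h
    exact h
  have h2 : IsOpenImmersion.lift (pullback.diagonal g) w hr = v := by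
    have h := congrArg (· ≫ pullback.snd g g) hl
    simp only [w, Category.assoc, pullback.diagonal_snd, Category.comp_id, pullback.lift_snd] at h
    exact h
  exact h1.symm.trans h2

include ha in
theorem isIso_of_etale_finite {U : Scheme.{u}} (gU : U ⟶ S) [Etale gU] [IsFinite gU]
    [IsIso (pullback.snd gU i)] : IsIso gU := by
  let h : pullback gU gU ⟶ S := pullback.fst gU gU ≫ gU
  haveI : IsFinite (pullback.fst gU gU) := MorphismProperty.pullback_fst _ _ inferInstance
  haveI : IsFinite h := MorphismProperty.comp_mem _ _ _ ‹IsFinite (pullback.fst gU gU)› ‹IsFinite gU›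
  have hD : IsClopen (Set.range (pullback.diagonal gU)) :=
    ⟨(pullback.diagonal gU).isClosedEmbedding.isClosed_range,
      (pullback.diagonal gU).isOpenEmbedding.isOpen_range⟩
  have hall := eq_univ i ha h _ hD fun p => by
    have e1 : (pullback.fst h i ≫ pullback.fst gU gU) ≫ gU = pullback.snd h i ≫ i := by
      rw [Category.assoc]; exact pullback.condition
    have e2 : (pullback.fst h i ≫ pullback.snd gU gU) ≫ gU = pullback.snd h i ≫ i := by
      rw [Category.assoc, ← pullback.condition, ← Category.assoc]; exact e1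
    have he : pullback.lift (f := gU) (g := i) _ _ e1 = pullback.lift _ _ e2 := by
      rw [← cancel_mono (pullback.snd gU i), pullback.lift_snd, pullback.lift_snd]
    have he' : pullback.fst h i ≫ pullback.fst gU gU = pullback.fst h i ≫ pullback.snd gU gU := by
      simpa using congrArg (· ≫ pullback.fst gU i) he
    have hf : pullback.fst h i = (pullback.fst h i ≫ pullback.fst gU gU) ≫ pullback.diagonal gU := by
      apply pullback.hom_ext
      · simp
      · simp [he']
    exact ⟨(pullback.fst h i ≫ pullback.fst gU gU) p,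
      (congrArg (fun m : pullback h i ⟶ pullback gU gU => m p) hf).symm⟩
  haveI : Surjective (pullback.diagonal gU) := ⟨fun z => hall.ge (Set.mem_univ z)⟩
  haveI : IsIso (pullback.diagonal gU) :=
    (isIso_iff_isOpenImmersion_and_surjective _).2 ⟨inferInstance, inferInstance⟩
  haveI : Mono gU := (pullback.isIso_diagonal_iff gU).1 inferInstance
  haveI : IsOpenImmersion gU := IsOpenImmersion.of_flat_of_mono gU
  have hr : IsClopen (Set.range gU) :=
    ⟨gU.isClosedMap.isClosed_range, gU.isOpenEmbedding.isOpen_range⟩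
  have hs := eq_univ_of_range i ha _ hr fun q => by
    refine ⟨(inv (pullback.snd gU i) ≫ pullback.fst gU i) q, ?_⟩
    rw [← Scheme.Hom.comp_apply, Category.assoc, pullback.condition, IsIso.inv_hom_id_assoc]
  haveI : Surjective gU := ⟨fun s => hs.ge (Set.mem_univ s)⟩
  exact (isIso_iff_isOpenImmersion_and_surjective gU).2 ⟨inferInstance, inferInstance⟩

include ha in
theorem exists_section [IsClosedImmersion i] [CompactSpace S] [QuasiSeparatedSpace S]
    {S' : Scheme.{u}} (g : S' ⟶ S) [Etale g] [IsSeparated g]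
    (s₀ : S₀ ⟶ S') (hs₀ : s₀ ≫ g = i) : ∃ u : S ⟶ S', u ≫ g = 𝟙 S ∧ i ≫ u = s₀ := by
  haveI : CompactSpace S₀ := QuasiCompact.compactSpace_of_compactSpace i
  obtain ⟨W, hWc, hW⟩ := exists_opens_compact (isCompact_range s₀.continuous)
  haveI : CompactSpace W := isCompact_iff_compactSpace.mp hWc
  let gW : W.toScheme ⟶ S := W.ι ≫ g
  haveI : QuasiCompact gW := quasiCompact_of_compactSpace _
  haveI := locallyQuasiFinite_etale gW
  obtain ⟨T, j, π, hj, -, hπ, hjπ⟩ := Groth.Agent.LocImmFT.exists_openImmersion_finite gW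
  let s₁ : S₀ ⟶ W.toScheme := IsOpenImmersion.lift W.ι s₀ (by rw [Scheme.Opens.range_ι]; exact hW)
  have hs₁ : s₁ ≫ gW = i := by
    rw [← Category.assoc, IsOpenImmersion.lift_fac, hs₀]
  let t₀ : S₀ ⟶ T := s₁ ≫ j
  have ht₀ : t₀ ≫ π = i := by rw [Category.assoc, hjπ, hs₁]
  let σ : S₀ ⟶ pullback π i := pullback.lift t₀ (𝟙 _) (by rw [Category.id_comp, ht₀])
  have hσc : IsClosedImmersion σ := by
    haveI : IsClosedImmersion (σ ≫ pullback.snd π i) := by rw [pullback.lift_snd]; infer_instance
    exact IsClosedImmersion.of_comp σ (pullback.snd π i)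
  let σ₁ : S₀ ⟶ pullback gW i := pullback.lift s₁ (𝟙 _) (by rw [Category.id_comp, hs₁])
  let m : pullback gW i ⟶ pullback π i :=
    pullback.map gW i π i j (𝟙 _) (𝟙 _) (by rw [Category.comp_id, hjπ]) (by simp)
  haveI : IsOpenImmersion m := MorphismProperty.pullbackMap (P := @IsOpenImmersion) hj inferInstance hjπ.symm (Category.id_comp _).symm
  haveI : IsOpenImmersion σ₁ :=
    isOpenImmersion_section (pullback.snd gW i) σ₁ (pullback.lift_snd _ _ _)
  have hσm : σ₁ ≫ m = σ := by
    apply pullback.hom_ext <;> simp [σ₁, m, σ, t₀]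
  haveI hσo : IsOpenImmersion σ := hσm ▸ inferInstance
  obtain ⟨U, ⟨hU, hUV⟩, -⟩ := ha T π hπ (Set.range σ)
    ⟨σ.isClosedEmbedding.isClosed_range, σ.isOpenEmbedding.isOpen_range⟩
  -- everything of `U` lies in the open part
  have hUj : U ⊆ Set.range j := by
    intro y hy
    by_contra hyj
    let C : Closeds T := ⟨U ∩ (Set.range j)ᶜ, hU.1.inter j.isOpenEmbedding.isOpen_range.isClosed_compl⟩
    let c := (Scheme.IdealSheafData.vanishingIdeal C).subschemeι
    have hrc : Set.range c = (C : Set T) := by simp [c]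
    haveI : IsFinite (c ≫ π) := MorphismProperty.comp_mem _ _ _ inferInstance hπ
    obtain ⟨z, rfl⟩ : y ∈ Set.range c := hrc.symm ▸ ⟨hy, hyj⟩
    refine false_of_empty i ha (c ≫ π) (fun p => ?_) z
    let n : pullback (c ≫ π) i ⟶ pullback π i :=
      pullback.map _ _ _ _ c (𝟙 _) (𝟙 _) (by simp) (by simp)
    have hn : pullback.fst π i (n p) = c (pullback.fst (c ≫ π) i p) := by
      rw [← Scheme.Hom.comp_apply, ← Scheme.Hom.comp_apply]
      exact congrArg (fun m : pullback (c ≫ π) i ⟶ T => m p) (pullback.lift_fst _ _ _)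
    have hc : c (pullback.fst (c ≫ π) i p) ∈ (C : Set T) := hrc ▸ ⟨_, rfl⟩
    obtain ⟨q, hq⟩ : n p ∈ Set.range σ := hUV.le (show pullback.fst π i (n p) ∈ U from hn ▸ hc.1)
    apply hc.2
    refine ⟨s₁ q, ?_⟩
    rw [← hn, ← hq, ← Scheme.Hom.comp_apply, ← Scheme.Hom.comp_apply, pullback.lift_fst]
  let Uo : T.Opens := ⟨U, hU.2⟩
  haveI : IsClosedImmersion Uo.ι :=
    IsClosedImmersion.of_isPreimmersion _ (by rw [Scheme.Opens.range_ι]; exact hU.1)
  let gU : Uo.toScheme ⟶ S := Uo.ι ≫ π
  haveI : IsFinite gU := MorphismProperty.comp_mem _ _ _ inferInstance hπ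
  let k : Uo.toScheme ⟶ W.toScheme :=
    IsOpenImmersion.lift j Uo.ι (by rw [Scheme.Opens.range_ι]; exact hUj)
  have hk : k ≫ j = Uo.ι := IsOpenImmersion.lift_fac _ _ _
  haveI : IsOpenImmersion (k ≫ j) := by rw [hk]; infer_instance
  haveI : IsOpenImmersion k := IsOpenImmersion.of_comp k j
  have hkg : gU = k ≫ gW := by rw [← hjπ, ← Category.assoc, hk]
  haveI : Etale gU := hkg ▸ inferInstance
  have hσU : ∀ q, t₀ q ∈ U := fun q => by
    have h : σ q ∈ pullback.fst π i ⁻¹' U := hUV.ge ⟨q, rfl⟩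
    rwa [Set.mem_preimage, ← Scheme.Hom.comp_apply, pullback.lift_fst] at h
  let sU : S₀ ⟶ Uo.toScheme := IsOpenImmersion.lift Uo.ι t₀ (by
    rw [Scheme.Opens.range_ι]; rintro _ ⟨q, rfl⟩; exact hσU q)
  have hsU : sU ≫ gU = i := by rw [← Category.assoc, IsOpenImmersion.lift_fac, ht₀]
  let ψ : S₀ ⟶ pullback gU i := pullback.lift sU (𝟙 _) (by rw [Category.id_comp, hsU])
  haveI : IsOpenImmersion ψ :=
    isOpenImmersion_section (pullback.snd gU i) ψ (pullback.lift_snd _ _ _)
  let mU : pullback gU i ⟶ pullback π i :=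
    pullback.map gU i π i Uo.ι (𝟙 _) (𝟙 _) (Category.comp_id _) (by simp)
  haveI : IsOpenImmersion mU := MorphismProperty.pullbackMap (P := @IsOpenImmersion) inferInstance inferInstance rfl (Category.id_comp _).symm
  have hψm : ψ ≫ mU = σ := by
    apply pullback.hom_ext <;> simp [ψ, mU, σ, sU]
  haveI : Surjective ψ := ⟨fun p => by
    obtain ⟨q, hq⟩ : mU p ∈ Set.range σ := hUV.le (by
      show pullback.fst π i (mU p) ∈ U
      rw [← Scheme.Hom.comp_apply, pullback.lift_fst, Scheme.Hom.comp_apply]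
      exact (pullback.fst gU i p).2)
    refine ⟨q, mU.isOpenEmbedding.injective ?_⟩
    rw [← hq, ← hψm]; rfl⟩
  haveI : IsIso ψ := (isIso_iff_isOpenImmersion_and_surjective ψ).2 ⟨inferInstance, inferInstance⟩
  haveI : IsIso (pullback.snd gU i) := by
    rw [show pullback.snd gU i = inv ψ by
      rw [← cancel_epi ψ, IsIso.hom_inv_id, pullback.lift_snd]]
    infer_instance
  haveI := isIso_of_etale_finite i ha gU
  refine ⟨inv gU ≫ k ≫ W.ι, ?_, ?_⟩
  · rw [Category.assoc, Category.assoc, ← hkg, IsIso.inv_hom_id]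
  · have h1 : i ≫ inv gU = sU := by rw [IsIso.comp_inv_eq, hsU]
    have h2 : sU ≫ k = s₁ := by
      rw [← cancel_mono j, Category.assoc, hk, IsOpenImmersion.lift_fac]
    rw [← Category.assoc, h1, ← Category.assoc, h2, IsOpenImmersion.lift_fac]

end Groth.Agent.HensClopen
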